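import Cfsg.Agent.Lib.H6.TiTC.Steps1

set_option autoImplicit false
set_option maxRecDepth 1000000

/-! # invariant through part 1 of Ti (generated) -/

namespace Cfsg.Agent.Lib.H6.TiTC

open Cfsg.Agent.Lib.H17.CosetCert Cfsg.Agent.Lib.H6.TC

theorem part1 {G Q : Type} [Group G] [MulAction G Q] (γ : ℕ → G)
    (hiv : ∀ x < 4, γ (iv x) = (γ x)⁻¹) (q0 : Q) (hw : WordsOK γ q0 words)
    (h0 : Inv F 4 γ q0 25000 12040) : Inv F 4 γ q0 25904 12069 := by
  have h1 := checkSteps_sound F iv 4 32768 γ hiv q0 words hw steps25 25000 12040 12069 h0 chk25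
  rw [len25] at h1
  exact h1

end Cfsg.Agent.Lib.H6.TiTC
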