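import Cfsg.Agent.Lib.H6.TiTC.Facts

set_option autoImplicit false
set_option maxRecDepth 1000000

/-! # mask of live nodes of Ti (generated) -/

namespace Cfsg.Agent.Lib.H6.TiTC

open Cfsg.Agent.Lib.H17.CosetCert Cfsg.Agent.Lib.H6.TC

/-- bit mask of the live nodes -/
def mask : ℕ := 0x7bc0f000000000000000c00000000000000000000007e00066000000000000000000000000000000000000000000000000018180018000000000000000000006000000000000000000000000000000000000000000000000000000000000000000000000000000000000000000000000000000000000000000000000000000000000000000000000000000000000000000000000000000000000000000000000000000000000000000000000000000000000000000000000000000000000000000000000000000000000000000000000000000000000033c00000000000000000000000000000000000000000000000000c0cc3000000000000000000000000030000000000000030c00f0c0c0003000000000000000000000000303c000000003f000000000f0000000000000000cf3000000000000000000fc300f300000000000000000000ffc000000030000000000000000000000000000000000000000000000000000000000003cc000000000000000000000000000000003000000000000000000000000000000000000000000000000000000000000018000000000000000000001f8000000000000006000ff00000000000000000000000c0000300000000000000000000000000000000000000000000000000000000000000000000000000000000003000000000000000000000000000000000000000000000000000000000000000000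00000000000000000000000000000000000000000000000000000000000000000000000000000000000000000000000000000000000000000000000007f8000000000000000000000000000000000000000000000000000000003f000000000000000000000000000000000000000000000300000000000000c0000000000000000000000000000000000000018000000000000000000000000000000000180060000000000007f8600000067e000619e00000000000000000000001ffe000000000606000180000000000600000001f9e1f8000007f801e786000000000000000000000180000001818000000000006000000000000000000000000000000007ff8001e00000000060001800000007f8007f9ff80180018000000000000000000000000000000000000060000006000000c000c00000000000030000000000000000000000000000018000000000000000000000000000000000000000000180000000000000000000000180000018000000000001800601e0000001e00660000001e0000000001e006000000000180000001e60000000000001e7e07860067e19e061ffe1ffffff8001e000000000000000000780000060000000000000000601e00001878180000000000000000000180000000000000678007ff81980600000000018000001e1fe1fe18187ff9e0019807f8607ffff9f80000000060000007800000000607f800000000000000000000000001800180006001e07e006000000000000000000000000000000000000000007807f800000000000000000000000000000000000000c0000000000003fc03fc303000000000000ff00ff00c00c000000000000003f03fffc00000000000c000f0fc000000000cc033c0000f00003c0f300000000000000c0003033f00000000303fc03030c0000000003fc0000003cc0f0000000f00f30000030fccf000000ff3c00ff0ffffff000000000000fc033cc3ff00fcf0fffff0c0ffc000000c000f0f000ffc00ffcc0000000c000003ff3c03c0c000c0003c00f0000c303ff30c000c0f00fffc03fc0cffffffff3ffcffc3000cc3fffff03fffc03fc03fff033ffffffff3ffffffcffc0fc00fffff3f00fc0fff3c3000c03ffffffffffffffffc30300fffffff0000f00ffccffcfcfffffcffc0c3fffffffffffc0ffff00f00fffc003cfffffff30cc0cff00000000000f003f0fc3fffcfffffffffc003f0fffcc0003ffc0f30ffffffcfffffc0f0ffc00fffcffff00fff0cff00ffffff00f03ff3fff033ffffff3fffffcffffffffffffffffffffffc0fffffffffffffffffc003ffffffffffffffffffffc0000000ffffffffffffffc1fffffffffffffff8fffdffbffffffffff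

end Cfsg.Agent.Lib.H6.TiTC
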